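import Groth.Agent.GrSegreLib.Upper
import Groth.Agent.NearGen.Dim
import Mathlib

/-!
The dimension of a product of schemes locally of finite type over a field.
-/

set_option autoImplicit false
set_option linter.style.haveILetI false

universe u

open CategoryTheory CategoryTheory.Limits AlgebraicGeometry TensorProduct

namespace Groth.Agent.ProdDim

variable {k : Type u} [Field k]

theorem ringKrullDim_eq_bot_or_nat (A : Type u) [CommRing A] [Algebra k A] [Algebra.FiniteType k A] :
    ringKrullDim A = ⊥ ∧ Subsingleton A ∨ ∃ n : ℕ, ringKrullDim A = n := by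
  rcases subsingleton_or_nontrivial A with h | h
  · exact Or.inl ⟨ringKrullDim_eq_bot_of_subsingleton, h⟩
  · obtain ⟨m, f, hf, hfi⟩ := exists_integral_inj_algHom_of_fg k A
    refine Or.inr ⟨m, ?_⟩
    rw [← GrSegreLib.ringKrullDim_eq_of_integral_injective f.toRingHom hf hfi,
      MvPolynomial.ringKrullDim_of_isNoetherianRing, ringKrullDim_eq_zero_of_field]
    simp

theorem ringKrullDim_tensor (A B : Type u) [CommRing A] [CommRing B] [Algebra k A] [Algebra k B]
    [Algebra.FiniteType k A] [Algebra.FiniteType k B] :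
    ringKrullDim (A ⊗[k] B) = ringKrullDim A + ringKrullDim B := by
  rcases ringKrullDim_eq_bot_or_nat (k := k) A with ⟨hA, hA'⟩ | ⟨r, hr⟩
  · rw [hA, WithBot.bot_add]
    haveI : Subsingleton (A ⊗[k] B) := subsingleton_of_forall_eq 0 fun x => by
      induction x using TensorProduct.induction_on with
      | zero => rfl
      | tmul a b => rw [Subsingleton.elim a (0 : A), TensorProduct.zero_tmul]
      | add x y hx hy => rw [hx, hy, add_zero]
    exact ringKrullDim_eq_bot_of_subsingleton
  rcases ringKrullDim_eq_bot_or_nat (k := k) B with ⟨hB, hB'⟩ | ⟨s, hs⟩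
  · rw [hB, WithBot.add_bot]
    haveI : Subsingleton (A ⊗[k] B) := subsingleton_of_forall_eq 0 fun x => by
      induction x using TensorProduct.induction_on with
      | zero => rfl
      | tmul a b => rw [Subsingleton.elim b (0 : B), TensorProduct.tmul_zero]
      | add x y hx hy => rw [hx, hy, add_zero]
    exact ringKrullDim_eq_bot_of_subsingleton
  rw [GrSegreLib.ringKrullDim_tensor_le hr hs, hr, hs, Nat.cast_add]

theorem iSup_eq_coe {ι : Type*} (a : ι → WithBot ℕ∞) {i₀ : ι} (hi₀ : a i₀ ≠ ⊥) :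
    (⨆ i, a i) = ((⨆ i, (a i).unbotD 0 : ℕ∞) : WithBot ℕ∞) := by
  refine le_antisymm (iSup_le fun i => ?_) ?_
  · cases hai : a i with
    | bot => exact bot_le
    | coe x =>
      refine WithBot.coe_le_coe.2 (le_iSup_of_le i ?_)
      simp [hai]
  · haveI : Nonempty ι := ⟨i₀⟩
    obtain ⟨x₀, hx₀⟩ := WithBot.ne_bot_iff_exists.1 hi₀
    obtain ⟨S, hS⟩ : ∃ S : ℕ∞, (⨆ i, a i) = S := by
      refine ⟨_, (WithBot.coe_unbot _ ?_).symm⟩
      exact ne_bot_of_le_ne_bot hi₀ (le_iSup a i₀)
    rw [hS]
    refine WithBot.coe_le_coe.2 (iSup_le fun i => ?_)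
    have h1 : a i ≤ S := hS ▸ le_iSup a i
    cases hai : a i with
    | bot => simp
    | coe x => rw [hai] at h1; simpa using WithBot.coe_le_coe.1 h1

theorem iSup₂_add {ι κ : Type*} (a : ι → WithBot ℕ∞) (b : κ → WithBot ℕ∞) :
    ⨆ p : ι × κ, a p.1 + b p.2 = (⨆ i, a i) + ⨆ j, b j := by
  refine le_antisymm (iSup_le fun p => add_le_add (le_iSup a p.1) (le_iSup b p.2)) ?_
  rcases eq_or_ne (⨆ i, a i) ⊥ with h | h
  · rw [h, WithBot.bot_add]; exact bot_le
  rcases eq_or_ne (⨆ j, b j) ⊥ with h' | h'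
  · rw [h', WithBot.add_bot]; exact bot_le
  obtain ⟨i₀, hi₀⟩ : ∃ i, a i ≠ ⊥ := by
    by_contra hc
    push Not at hc
    exact h (by simp [hc])
  obtain ⟨j₀, hj₀⟩ : ∃ j, b j ≠ ⊥ := by
    by_contra hc
    push Not at hc
    exact h' (by simp [hc])
  haveI : Nonempty ι := ⟨i₀⟩
  haveI : Nonempty κ := ⟨j₀⟩
  rw [iSup_eq_coe a hi₀, iSup_eq_coe b hj₀, ← WithBot.coe_add]
  have hbound : ∀ C : WithBot ℕ∞, (∀ p : ι × κ, a p.1 + b p.2 ≤ C) →
      (((⨆ i, (a i).unbotD 0) + ⨆ j, (b j).unbotD 0 : ℕ∞) : WithBot ℕ∞) ≤ C := by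
    intro C hC
    obtain ⟨x₀, hx₀⟩ := WithBot.ne_bot_iff_exists.1 hi₀
    obtain ⟨y₀, hy₀⟩ := WithBot.ne_bot_iff_exists.1 hj₀
    obtain ⟨c, rfl⟩ : ∃ c : ℕ∞, C = c := by
      refine ⟨_, (WithBot.coe_unbot C ?_).symm⟩
      exact ne_bot_of_le_ne_bot (by rw [← hx₀, ← hy₀, ← WithBot.coe_add]; exact WithBot.coe_ne_bot)
        (hC (i₀, j₀))
    refine WithBot.coe_le_coe.2 (ENat.iSup_add_iSup_le fun i j => ?_)
    cases hai : a i with
    | bot =>
      simp only [WithBot.unbotD_bot, zero_add]
      cases hbj : b j with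
      | bot => simp
      | coe y =>
        have := hC (i₀, j)
        rw [← hx₀, hbj, ← WithBot.coe_add, WithBot.coe_le_coe] at this
        simpa using le_trans le_add_self this
    | coe x =>
      cases hbj : b j with
      | bot =>
        have := hC (i, j₀)
        rw [hai, ← hy₀, ← WithBot.coe_add, WithBot.coe_le_coe] at this
        simpa using le_trans le_self_add this
      | coe y =>
        have := hC (i, j)
        rw [hai, hbj, ← WithBot.coe_add, WithBot.coe_le_coe] at this
        simpa using this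
  exact hbound _ fun p => le_iSup (fun p : ι × κ => a p.1 + b p.2) p

theorem topologicalKrullDim_eq_iSup_openCover {X : Scheme.{u}} (𝒰 : X.OpenCover) :
    topologicalKrullDim X = ⨆ i, topologicalKrullDim (𝒰.X i) := by
  rw [NearGen.topologicalKrullDim_eq_iSup_of_cover (fun i => Set.range (𝒰.f i).base)
    (fun i => (𝒰.f i).isOpenEmbedding.isOpen_range)
    (fun x => ⟨_, (𝒰.exists_eq x).choose_spec⟩)]
  congr 1
  ext1 i
  exact ((𝒰.f i).isOpenEmbedding.isEmbedding.toHomeomorph.isHomeomorph.topologicalKrullDim_eq _).symm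

theorem topologicalKrullDim_pullback {X Y : Scheme.{u}}
    (f : X ⟶ Spec (CommRingCat.of k)) (g : Y ⟶ Spec (CommRingCat.of k))
    [LocallyOfFiniteType f] [LocallyOfFiniteType g] :
    topologicalKrullDim ↥(pullback f g) = topologicalKrullDim ↥X + topologicalKrullDim ↥Y := by
  rw [topologicalKrullDim_eq_iSup_openCover
      (Scheme.Pullback.openCoverOfLeftRight X.affineCover Y.affineCover f g),
    topologicalKrullDim_eq_iSup_openCover X.affineCover,
    topologicalKrullDim_eq_iSup_openCover Y.affineCover, ← iSup₂_add]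
  congr 1
  ext1 ⟨i, j⟩
  show topologicalKrullDim ↥(pullback (X.affineCover.f i ≫ f) (Y.affineCover.f j ≫ g)) = _
  have key : ∀ {R D : CommRingCat.{u}} (a : Spec R ⟶ Spec (CommRingCat.of k))
      (b : Spec D ⟶ Spec (CommRingCat.of k)) [LocallyOfFiniteType a] [LocallyOfFiniteType b],
      topologicalKrullDim ↥(pullback a b) = topologicalKrullDim ↥(Spec R) + topologicalKrullDim ↥(Spec D) := by
    intro R D a b ha hb
    obtain ⟨φ, rfl⟩ := Spec.map_surjective a
    obtain ⟨ψ, rfl⟩ := Spec.map_surjective b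
    letI : Algebra k R := φ.hom.toAlgebra
    letI : Algebra k D := ψ.hom.toAlgebra
    haveI : Algebra.FiniteType k R :=
      RingHom.finiteType_algebraMap.1 ((HasRingHomProperty.Spec_iff (P := @LocallyOfFiniteType)).1 ha)
    haveI : Algebra.FiniteType k D :=
      RingHom.finiteType_algebraMap.1 ((HasRingHomProperty.Spec_iff (P := @LocallyOfFiniteType)).1 hb)
    show topologicalKrullDim ↥(pullback (Spec.map (CommRingCat.ofHom (algebraMap k R)))
      (Spec.map (CommRingCat.ofHom (algebraMap k D)))) = _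
    rw [(pullbackSpecIso k R D).hom.homeomorph.isHomeomorph.topologicalKrullDim_eq _]
    show topologicalKrullDim (PrimeSpectrum (R ⊗[k] D)) =
      topologicalKrullDim (PrimeSpectrum R) + topologicalKrullDim (PrimeSpectrum D)
    simp only [PrimeSpectrum.topologicalKrullDim_eq_ringKrullDim]
    exact ringKrullDim_tensor (k := k) R D
  exact @key _ _ _ _ (MorphismProperty.comp_mem _ _ _ inferInstance inferInstance)
    (MorphismProperty.comp_mem _ _ _ inferInstance inferInstance)

end Groth.Agent.ProdDim
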